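import Cfsg.Agent.H851.Dg.Defs

/-!
# S5734: the normalisers of the cyclic tori of order `Φ₁₂` (helper819)

`nd_norm` : `M = N(⟨a⟩)`, `|C(a)| = N` odd, `|M| = 4 N`; then `|T| ≤ 8 nd M`.
-/

set_option autoImplicit false

namespace Cfsg.Agent.H819.Dg

open Cfsg.Agent.H851.Dg (nd)

section

variable {T : Type*} [Group T] [Finite T]

/-- the class of `x` -/
def cls (x : T) : Set T := {z | ∃ g : T, g * x * g⁻¹ = z}

theorem card_cls (x : T) {k : ℕ} (hk : k ≤ Nat.card (Subgroup.centralizer ({x} : Set T))) :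
    k * (cls x).ncard ≤ Nat.card T := by
  have h1 : Nat.card (cls x) ≤ Nat.card (T ⧸ Subgroup.centralizer ({x} : Set T)) := by
    refine Nat.card_le_card_of_surjective
      (fun q : T ⧸ Subgroup.centralizer ({x} : Set T) => (⟨q.out * x * q.out⁻¹, q.out, rfl⟩ : cls x)) ?_
    rintro ⟨z, g, rfl⟩
    refine ⟨QuotientGroup.mk g, Subtype.ext ?_⟩
    obtain ⟨k, hk⟩ := QuotientGroup.mk_out_eq_mul (Subgroup.centralizer ({x} : Set T)) g
    have h2 : (k : T) * x = x * k := Subgroup.mem_centralizer_singleton_iff.1 k.2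
    show (QuotientGroup.mk g : T ⧸ Subgroup.centralizer ({x} : Set T)).out * x *
      ((QuotientGroup.mk g : T ⧸ Subgroup.centralizer ({x} : Set T)).out)⁻¹ = g * x * g⁻¹
    rw [hk]
    calc g * k * x * (g * k)⁻¹ = g * (k * x) * (k : T)⁻¹ * g⁻¹ := by group
      _ = g * x * g⁻¹ := by rw [h2]; group
  rw [Nat.card_coe_set_eq] at h1
  have h2 := (Subgroup.centralizer ({x} : Set T)).card_mul_index
  have h3 : (Subgroup.centralizer ({x} : Set T)).index = Nat.card (T ⧸ Subgroup.centralizer ({x} : Set T)) := rfl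
  rw [← h2, h3]
  exact Nat.mul_le_mul hk h1

theorem card_conj_le {C M : Subgroup T} (hn : ∀ n ∈ M, ∀ c ∈ C, n⁻¹ * c * n ∈ C) {k : ℕ}
    (hk : k * Nat.card C ≤ Nat.card M) : k * ({z : T | ∃ g, g * z * g⁻¹ ∈ C} : Set T).ncard ≤ Nat.card T := by
  have h1 : Nat.card ({z : T | ∃ g, g * z * g⁻¹ ∈ C} : Set T) ≤ Nat.card ((T ⧸ M) × C) := by
    refine Nat.card_le_card_of_surjective (fun y : (T ⧸ M) × C =>
      (⟨y.1.out * y.2 * y.1.out⁻¹, y.1.out⁻¹, by
        have : y.1.out⁻¹ * (y.1.out * (y.2 : T) * y.1.out⁻¹) * y.1.out⁻¹⁻¹ = y.2 := by group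
        rw [this]; exact y.2.2⟩ : ({z : T | ∃ g, g * z * g⁻¹ ∈ C} : Set T))) ?_
    rintro ⟨z, g, hg⟩
    obtain ⟨n, hn'⟩ := QuotientGroup.mk_out_eq_mul M g⁻¹
    refine ⟨(QuotientGroup.mk g⁻¹, ⟨_, hn n n.2 _ hg⟩), Subtype.ext ?_⟩
    show (QuotientGroup.mk g⁻¹ : T ⧸ M).out * ((n : T)⁻¹ * (g * z * g⁻¹) * n) *
      ((QuotientGroup.mk g⁻¹ : T ⧸ M).out)⁻¹ = z
    rw [hn']
    group
  rw [Nat.card_coe_set_eq, Nat.card_prod] at h1
  have h2 := M.card_mul_index
  have h3 : M.index = Nat.card (T ⧸ M) := rfl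
  rw [← h3] at h1
  calc k * ({z : T | ∃ g, g * z * g⁻¹ ∈ C} : Set T).ncard ≤ k * (M.index * Nat.card C) := Nat.mul_le_mul_left _ h1
    _ = (k * Nat.card C) * M.index := by ring
    _ ≤ Nat.card M * M.index := Nat.mul_le_mul_right _ hk
    _ = Nat.card T := h2

theorem nd_norm {a : T} {N : ℕ} (hN2 : ¬ 2 ∣ N)
    (hcyc : IsCyclic (Subgroup.centralizer ({a} : Set T)))
    (hC : Nat.card (Subgroup.centralizer ({a} : Set T)) = N)
    (hM : Nat.card (Subgroup.normalizer (Subgroup.zpowers a : Set T)) = N * 4)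
    (hcent : ∀ y : T, (orderOf y).Prime → orderOf y ∣ N → Nat.card (Subgroup.centralizer ({y} : Set T)) ∣ N)
    (hinv : ∀ z : T, orderOf z = 2 → 8 ≤ Nat.card (Subgroup.centralizer ({z} : Set T))) :
    Nat.card T ≤ 8 * nd (Subgroup.normalizer (Subgroup.zpowers a : Set T)) := by
  classical
  have hp2 := Fact.mk Nat.prime_two
  set C := Subgroup.centralizer ({a} : Set T) with hCdef
  set M := Subgroup.normalizer (Subgroup.zpowers a : Set T) with hMdef
  have hN0 : 0 < N := by rw [← hC]; exact Nat.card_pos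
  have hCz : ∀ c ∈ C, ∀ z ∈ Subgroup.zpowers a, c * z = z * c := by
    intro c hc z hz
    obtain ⟨k, rfl⟩ := Subgroup.mem_zpowers_iff.1 hz
    have h1 : Commute c a := Subgroup.mem_centralizer_singleton_iff.1 hc
    exact (h1.zpow_right k).eq
  have hCM : C ≤ M := by
    intro c hc
    rw [hMdef, Subgroup.mem_normalizer_iff]
    intro z
    constructor
    · intro hz
      rw [hCz c hc z hz, mul_inv_cancel_right]
      exact hz
    · intro hz
      have h1 := hCz c⁻¹ (inv_mem hc) _ hz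
      have h2 : z = c⁻¹ * (c * z * c⁻¹) * c := by group
      rw [h2, h1, inv_mul_cancel_right]
      exact hz
  have hnorm : ∀ n ∈ M, ∀ c ∈ C, n * c * n⁻¹ ∈ C := by
    intro n hn c hc
    rw [hCdef, Subgroup.mem_centralizer_singleton_iff]
    have h1 : n⁻¹ * a * n⁻¹⁻¹ ∈ Subgroup.zpowers a :=
      (Subgroup.mem_normalizer_iff.1 (M.inv_mem hn) a).1 (Subgroup.mem_zpowers a)
    rw [inv_inv] at h1
    have h2 := hCz c hc _ h1
    calc n * c * n⁻¹ * a = n * (c * (n⁻¹ * a * n)) * n⁻¹ := by group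
      _ = n * ((n⁻¹ * a * n) * c) * n⁻¹ := by rw [h2]
      _ = a * (n * c * n⁻¹) := by group
  have hCn : (C.subgroupOf M).Normal := by
    refine ⟨fun c hc n => ?_⟩
    rw [Subgroup.mem_subgroupOf] at hc ⊢
    exact hnorm n n.2 c hc
  have hidx : (C.subgroupOf M).index = 4 := by
    have h1 := (C.subgroupOf M).card_mul_index
    have h2 : Nat.card (C.subgroupOf M) = N := by
      rw [← hC]
      exact Nat.card_congr (Subgroup.subgroupOfEquivOfLe hCM).toEquiv
    rw [h2, hM] at h1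
    exact Nat.eq_of_mul_eq_mul_left hN0 h1
  have h4 : ∀ x ∈ M, x ^ 4 ∈ C := by
    intro x hx
    have h1 := (C.subgroupOf M).pow_index_mem ⟨x, hx⟩
    rw [hidx] at h1
    exact h1
  have hdich : ∀ x ∈ M, x ^ 4 = 1 ∨ x ∈ C := by
    intro x hx
    by_contra hcon
    push Not at hcon
    obtain ⟨h1, h2⟩ := hcon
    obtain ⟨u, hu, hud⟩ := Nat.exists_prime_and_dvd (n := orderOf (x ^ 4)) (by rwa [Ne, orderOf_eq_one_iff])
    set y := (x ^ 4) ^ (orderOf (x ^ 4) / u) with hy
    have hyu : orderOf y = u := by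
      rw [hy, orderOf_pow_of_dvd (Nat.div_pos (Nat.le_of_dvd (orderOf_pos _) hud) hu.pos).ne'
        (Nat.div_dvd_of_dvd hud)]
      exact Nat.div_div_self hud (orderOf_pos _).ne'
    have hyC : y ∈ C := pow_mem (h4 x hx) _
    have huN : u ∣ N := by
      rw [← hC, ← hyu]
      have := orderOf_dvd_natCard (⟨y, hyC⟩ : C)
      rwa [Subgroup.orderOf_mk] at this
    have h3 := hcent y (by rw [hyu]; exact hu) (by rw [hyu]; exact huN)
    have h5 : C ≤ Subgroup.centralizer ({y} : Set T) := by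
      intro c hc
      rw [Subgroup.mem_centralizer_singleton_iff]
      exact congrArg Subtype.val ((IsCyclic.commGroup (α := C)).mul_comm ⟨c, hc⟩ ⟨y, hyC⟩)
    have h6 : C = Subgroup.centralizer ({y} : Set T) := by
      refine Subgroup.eq_of_le_of_card_ge h5 ?_
      rw [hC]
      exact Nat.le_of_dvd hN0 h3
    apply h2
    rw [h6, Subgroup.mem_centralizer_singleton_iff]
    exact ((Commute.refl x).pow_right 4).pow_right _
  -- the Sylow `2`-subgroup
  obtain ⟨Q⟩ : Nonempty (Sylow 2 M) := inferInstance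
  have hQ4 : Nat.card Q = 4 := by
    rw [Q.card_eq_multiplicity, hM]
    have h1 : (N * 4).factorization 2 = 2 := by
      rw [Nat.factorization_mul hN0.ne' (by norm_num), Finsupp.add_apply,
        Nat.factorization_eq_zero_of_not_dvd hN2, show (4 : ℕ) = 2 ^ 2 by norm_num,
        Nat.Prime.factorization_pow Nat.prime_two]
      simp
    rw [h1]
    norm_num
  set Q' : Subgroup T := (Q : Subgroup M).map M.subtype with hQ'
  have hQ'4 : Nat.card Q' = 4 := by
    rw [hQ', Subgroup.card_map_of_injective M.subtype_injective]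
    exact hQ4
  have hQab : ∀ x ∈ Q', ∀ y ∈ Q', x * y = y * x := by
    intro x hx y hy
    have h1 : IsMulCommutative Q' := IsPGroup.isMulCommutative_of_card_eq_prime_sq (p := 2) (by rw [hQ'4]; norm_num)
    exact congrArg Subtype.val (h1.is_comm.comm ⟨x, hx⟩ ⟨y, hy⟩)
  have hQC : ∀ x ∈ Q', 4 ≤ Nat.card (Subgroup.centralizer ({x} : Set T)) := by
    intro x hx
    rw [← hQ'4]
    refine Subgroup.card_le_of_le ?_
    intro y hy
    rw [Subgroup.mem_centralizer_singleton_iff]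
    exact hQab y hy x hx
  obtain ⟨⟨z, hz⟩, hz2⟩ := exists_prime_orderOf_dvd_card' (G := Q') 2 (by rw [hQ'4]; norm_num)
  rw [Subgroup.orderOf_mk] at hz2
  have hz1 : z ≠ 1 := by
    rintro rfl
    rw [orderOf_one] at hz2
    omega
  let _ : Fintype ↑(Q' : Set T) := Fintype.ofFinite _
  set s : Finset T := (Q' : Set T).toFinset with hs
  have hs4 : s.card = 4 := by
    rw [hs, Set.toFinset_card, ← Nat.card_eq_fintype_card]
    exact hQ'4
  have h1s : (1 : T) ∈ s := by rw [hs, Set.mem_toFinset]; exact Q'.one_mem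
  have hzs : z ∈ s.erase 1 := by
    rw [Finset.mem_erase, hs, Set.mem_toFinset]
    exact ⟨hz1, hz⟩
  have hcard2 : ((s.erase 1).erase z).card = 2 := by
    rw [Finset.card_erase_of_mem hzs, Finset.card_erase_of_mem h1s, hs4]
  obtain ⟨x₁, x₂, -, hx⟩ := Finset.card_eq_two.1 hcard2
  have hx₁ : x₁ ∈ Q' := by
    have h1 : x₁ ∈ (s.erase 1).erase z := by rw [hx]; simp
    have h2 := Finset.mem_of_mem_erase (Finset.mem_of_mem_erase h1)
    rwa [hs, Set.mem_toFinset] at h2
  have hx₂ : x₂ ∈ Q' := by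
    have h1 : x₂ ∈ (s.erase 1).erase z := by rw [hx]; simp
    have h2 := Finset.mem_of_mem_erase (Finset.mem_of_mem_erase h1)
    rwa [hs, Set.mem_toFinset] at h2
  have hQcase : ∀ y ∈ Q', y = 1 ∨ y = z ∨ y = x₁ ∨ y = x₂ := by
    intro y hy
    by_contra hcon
    push Not at hcon
    have h1 : y ∈ (s.erase 1).erase z := by
      rw [Finset.mem_erase, Finset.mem_erase, hs, Set.mem_toFinset]
      exact ⟨hcon.2.1, hcon.1, hy⟩
    rw [hx, Finset.mem_insert, Finset.mem_singleton] at h1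
    rcases h1 with h1 | h1
    · exact hcon.2.2.1 h1
    · exact hcon.2.2.2 h1
  -- the elements with conjugates in `M`
  have hcov : {x : T | ∃ g : T, g * x * g⁻¹ ∈ M} ⊆
      ({x : T | ∃ g : T, g * x * g⁻¹ ∈ C} ∪ cls z) ∪ (cls x₁ ∪ cls x₂) := by
    rintro x ⟨g, hg⟩
    by_cases hgC : g * x * g⁻¹ ∈ C
    · exact Or.inl (Or.inl ⟨g, hgC⟩)
    · have h1 := (hdich _ hg).resolve_right hgC
      set y : M := ⟨g * x * g⁻¹, hg⟩ with hy
      have hy4 : y ^ 4 = 1 := Subtype.ext h1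
      have hpg : IsPGroup 2 (Subgroup.zpowers y) := by
        rintro ⟨_, k, rfl⟩
        refine ⟨2, Subtype.ext ?_⟩
        show (y ^ k) ^ 2 ^ 2 = 1
        rw [show (2 : ℕ) ^ 2 = 4 by norm_num, ← zpow_natCast, ← zpow_mul, mul_comm, zpow_mul, zpow_natCast, hy4,
          one_zpow]
      obtain ⟨P, hP⟩ := hpg.exists_le_sylow
      obtain ⟨h, hh⟩ := MulAction.exists_smul_eq M P Q
      have hyP : y ∈ P := hP (Subgroup.mem_zpowers y)
      have hyQ : h * y * h⁻¹ ∈ Q := by
        rw [← hh]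
        exact Subgroup.smul_mem_pointwise_smul y (MulAut.conj h) (P : Subgroup M) hyP
      have hw : (h : T) * (g * x * g⁻¹) * (h : T)⁻¹ ∈ Q' := ⟨_, hyQ, rfl⟩
      have hxe : ∀ w : T, (h : T) * (g * x * g⁻¹) * (h : T)⁻¹ = w → x ∈ cls w := by
        rintro w rfl
        exact ⟨(h * g)⁻¹, by group⟩
      rcases hQcase _ hw with h2 | h2 | h2 | h2
      · exfalso
        apply hgC
        have h3 : g * x * g⁻¹ = 1 := by
          have h5 : (h : T)⁻¹ * ((h : T) * (g * x * g⁻¹) * (h : T)⁻¹) * h = g * x * g⁻¹ := by group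
          rw [← h5, h2]
          group
        rw [h3]
        exact C.one_mem
      · exact Or.inl (Or.inr (hxe _ h2))
      · exact Or.inr (Or.inl (hxe _ h2))
      · exact Or.inr (Or.inr (hxe _ h2))
  have e1 : 4 * ({x : T | ∃ g : T, g * x * g⁻¹ ∈ C} : Set T).ncard ≤ Nat.card T :=
    card_conj_le (M := M) (fun n hn c hc => by
      have := hnorm n⁻¹ (inv_mem hn) c hc
      rwa [inv_inv] at this) (by rw [hC, hM, mul_comm])
  have e2 := card_cls z (hinv z hz2)
  have e3 := card_cls x₁ (hQC x₁ hx₁)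
  have e4 := card_cls x₂ (hQC x₂ hx₂)
  have e5 := Set.ncard_le_ncard hcov (Set.toFinite _)
  have e6 := Set.ncard_union_le ({x : T | ∃ g : T, g * x * g⁻¹ ∈ C} ∪ cls z) (cls x₁ ∪ cls x₂)
  have e7 := Set.ncard_union_le {x : T | ∃ g : T, g * x * g⁻¹ ∈ C} (cls z)
  have e8 := Set.ncard_union_le (cls x₁) (cls x₂)
  have e9 : nd M + ({x : T | ∃ g : T, g * x * g⁻¹ ∈ M} : Set T).ncard = Nat.card T := by
    have h1 := Nat.card_congr (Equiv.sumCompl (fun x : T => ∀ g : T, g * x * g⁻¹ ∉ M))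
    rw [Nat.card_sum] at h1
    have h2 : Nat.card {x : T // ¬ ∀ g : T, g * x * g⁻¹ ∉ M} =
        ({x : T | ∃ g : T, g * x * g⁻¹ ∈ M} : Set T).ncard := by
      rw [← Nat.card_coe_set_eq]
      refine Nat.card_congr (Equiv.subtypeEquivRight fun x => ?_)
      rw [Set.mem_ofPred_eq]
      push Not
      rfl
    rw [h2] at h1
    exact h1
  omega

end

end Cfsg.Agent.H819.Dg
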