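import Cfsg.Agent.H290.ElCross
import Cfsg.Agent.H290.ElEng
import Cfsg.Agent.H290.ElRich
import Cfsg.Agent.H290.ElTor
import Cfsg.Agent.H264.FKS.Res
import Cfsg.Agent.H902.Facts
import Cfsg.Agent.H851.Dg.Big

/-!
# S5734, exceptional groups: the common core (helper819)

* `TorG T N m` : `m ∣ |T|`, the centralisers of the elements of prime order `u ∣ m` are cyclic of order dividing `N`;
* `TorG.dvd_of_not_missC` : `m ∣ |R|` unless a power of a prime with cyclic Sylow subgroups is missing;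
* `rad` : no solvable normal subgroups;
* `char_of` : then `R` is almost simple with socle alternating or of Lie type in the characteristic `p`.
-/

set_option autoImplicit false

namespace Cfsg.Agent.H819.Dg

open Cfsg Cfsg.Agent.OrdDiv Cfsg.Agent.H902 Cfsg.Agent.H902.Names
open Cfsg.Agent.H290.ElReg Cfsg.Agent.H290.ElTab Cfsg.Agent.H290.ElCross Cfsg.Agent.H290.ElEng
  Cfsg.Agent.H290.ElRich Cfsg.Agent.H290.ElMain Cfsg.Agent.H290.ElWt
open Cfsg.Agent.H436 (IsNamed Cond)
open Cfsg.Agent.H915.GN (HasChar)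
open Cfsg.Agent.H264.FKS (exists_lie)
open Cfsg.Agent.H851.Dg (CycP MissC)
open Cfsg.Agent.H912.Bd

/-! ### cyclic tori -/

/-- `m ∣ |T|` and the centralisers of the elements of prime order `u ∣ m` are cyclic of order dividing `N` -/
structure TorG (T : Type*) [Group T] (N m : ℕ) : Prop where
  dvd : m ∣ Nat.card T
  cyc : ∀ u : ℕ, u.Prime → u ∣ m → ∀ x : T, orderOf x = u →
    IsCyclic (Subgroup.centralizer ({x} : Set T)) ∧ Nat.card (Subgroup.centralizer ({x} : Set T)) ∣ N

variable {T : Type*} [Group T]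

theorem TorG.congr {T' : Type*} [Group T'] (e : T ≃* T') {N m : ℕ} (h : TorG T N m) : TorG T' N m := by
  refine ⟨by rw [← Nat.card_congr e.toEquiv]; exact h.dvd, fun u hu hd x hx => ?_⟩
  have h1 := h.cyc u hu hd (e.symm x)
    (by rw [← hx]; exact orderOf_injective e.symm.toMonoidHom e.symm.injective x)
  have h3 : (Subgroup.centralizer ({e.symm x} : Set T)).map e.toMonoidHom = Subgroup.centralizer ({x} : Set T') := by
    ext y
    constructor
    · rintro ⟨z, hz, rfl⟩
      have hz' := Subgroup.mem_centralizer_singleton_iff.1 hz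
      rw [Subgroup.mem_centralizer_singleton_iff]
      have := congrArg e hz'
      simpa using this
    · intro hy
      rw [Subgroup.mem_centralizer_singleton_iff] at hy
      refine ⟨e.symm y, ?_, by simp⟩
      show e.symm y ∈ Subgroup.centralizer ({e.symm x} : Set T)
      rw [Subgroup.mem_centralizer_singleton_iff, ← map_mul, ← map_mul, hy]
  have e' := (Subgroup.centralizer ({e.symm x} : Set T)).equivMapOfInjective e.toMonoidHom e.injective
  rw [h3] at e'
  refine ⟨?_, by rw [← Nat.card_congr e'.toEquiv]; exact h1.2⟩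
  have := h1.1
  exact isCyclic_of_surjective e'.toMonoidHom e'.surjective

theorem TorG.mono {N N' m m' : ℕ} (h : TorG T N m) (hN : N ∣ N') (hm : m' ∣ m) : TorG T N' m' :=
  ⟨hm.trans h.dvd, fun u hu hd x hx =>
    ⟨(h.cyc u hu (hd.trans hm) x hx).1, (h.cyc u hu (hd.trans hm) x hx).2.trans hN⟩⟩

variable [Finite T]

theorem TorG.cycP {N m : ℕ} (h : TorG T N m) {u : ℕ} (hu : u.Prime) (hd : u ∣ m) : CycP u T := by
  intro P hP
  have := Fact.mk hu
  by_cases hP1 : P = ⊥
  · subst hP1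
    infer_instance
  · have hnt : Nontrivial P := (Subgroup.nontrivial_iff_ne_bot P).2 hP1
    have hZ := hP.center_nontrivial
    have hZp : IsPGroup u ↥(Subgroup.center P) := hP.to_subgroup _
    obtain ⟨z, hz⟩ : ∃ z : ↥(Subgroup.center P), orderOf z = u := by
      refine exists_prime_orderOf_dvd_card' u ?_
      obtain ⟨n, hn0, hn⟩ := (hZp.nontrivial_iff_card).1 hZ
      rw [hn]
      exact dvd_pow_self u hn0.ne'
    have hzu : orderOf ((z : P) : T) = u := by rw [Subgroup.orderOf_coe, Subgroup.orderOf_coe, hz]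
    have h1 := (h.cyc u hu hd _ hzu).1
    have hle : P ≤ Subgroup.centralizer ({((z : P) : T)} : Set T) := by
      intro y hy
      rw [Subgroup.mem_centralizer_singleton_iff]
      exact congrArg Subtype.val (Subgroup.mem_center_iff.1 z.2 ⟨y, hy⟩)
    exact isCyclic_of_injective (Subgroup.inclusion hle) (Subgroup.inclusion_injective hle)

theorem TorG.dvd_of_not_missC {N m : ℕ} (h : TorG T N m) {R : Subgroup T} (hR : ¬ MissC R) : m ∣ Nat.card R := by
  refine (Nat.dvd_iff_prime_pow_dvd_dvd _ _).2 fun u k hu hk => ?_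
  rcases Nat.eq_zero_or_pos k with rfl | h0
  · rw [pow_zero]; exact one_dvd _
  by_contra hnd
  exact hR ⟨u, k, hu, h0, hk.trans h.dvd, hnd, h.cycP hu ((dvd_pow_self u (by omega)).trans hk)⟩

omit [Finite T] in
theorem TorG.ab {N m : ℕ} (h : TorG T N m) {u : ℕ} (hu : u.Prime) (hd : u ∣ m) : Ab T u := by
  refine ⟨hu, hd.trans h.dvd, fun x hx a b ha hb => ?_⟩
  have hc := (h.cyc u hu hd x hx).1
  have h1 := (IsCyclic.commGroup (α := Subgroup.centralizer ({x} : Set T))).mul_comm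
    ⟨a, Subgroup.mem_centralizer_singleton_iff.2 ha⟩ ⟨b, Subgroup.mem_centralizer_singleton_iff.2 hb⟩
  exact congrArg Subtype.val h1

omit [Finite T] in
theorem TorG.tc {N m : ℕ} (h : TorG T N m) {u : ℕ} (hu : u.Prime) (hd : u ∣ m) : Tc T u N :=
  ⟨h.ab hu hd, fun x hx => (h.cyc u hu hd x hx).2⟩

/-! ### the radical -/

section Rad

variable {F : Type*} [Field F] {ι : Type*} [Fintype ι] [DecidableEq ι] {G : Type*} [Group G] [Finite G]

/-- an element of prime order acting trivially on the nontrivial weights centralises `A` -/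
theorem dvd_factorial {p : ℕ} [CharP F p] {τ : G →* GL ι F} (hτ : Function.Injective τ) {A : Subgroup G}
    [hAn : A.Normal] (hA : ∀ a ∈ A, ∀ b ∈ A, a * b = b * a) (hp : ¬ p ∣ Nat.card A) (hne : A ≠ ⊥) {u k : ℕ}
    (hu : u.Prime) (hfree : ∀ x : G, orderOf x = u → ∀ a ∈ A, x * a = a * x → a = 1) (hk : u ^ k ∣ Nat.card G) :
    u ^ k ∣ (Fintype.card ι).factorial := by
  have := Fact.mk hu
  have : CharP (AlgebraicClosure F) p := charP_of_injective_algebraMap (algebraMap F _).injective p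
  have hN : ((Nat.card A : ℕ) : AlgebraicClosure F) ≠ 0 := by
    intro h
    exact hp ((CharP.cast_eq_zero_iff (AlgebraicClosure F) p _).1 h)
  have hAN : ∀ a ∈ A, a ^ Nat.card A = 1 := by
    intro a ha
    have := pow_card_eq_one' (x := (⟨a, ha⟩ : A))
    exact congrArg Subtype.val this
  obtain ⟨hfin, hle⟩ := finite_wts (cl τ) hA hN hAN
  set φ : G →* Equiv.Perm (Wts (cl τ) A) := MulAction.toPermHom G (Wts (cl τ) A) with hφ
  have hker : ¬ u ∣ Nat.card φ.ker := by
    intro hd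
    obtain ⟨⟨x, hx⟩, hxu⟩ := exists_prime_orderOf_dvd_card' u hd
    rw [Subgroup.orderOf_mk] at hxu
    have h3 : φ x = 1 := hx
    have h4 : ∀ χ : Wts (cl τ) A, x • χ = χ := fun χ => by
      have := DFunLike.congr_fun h3 χ
      exact this
    apply hne
    rw [eq_bot_iff]
    intro a ha
    rw [Subgroup.mem_bot]
    refine hfree x hxu a ha ?_
    have hxa : x⁻¹ * a * x ∈ A := by simpa using hAn.conj_mem a ha x⁻¹
    have hc : (x⁻¹ * a * x) * a⁻¹ ∈ A := mul_mem hxa (inv_mem ha)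
    have key : (x⁻¹ * a * x) * a⁻¹ = 1 := by
      by_contra hne'
      obtain ⟨χ, hχ, hχa⟩ := exists_wt (cl τ) hA hN hAN (c := ⟨_, hc⟩) (fun h => hne' (cl_injective hτ h))
      have h5 := congrFun (congrArg Subtype.val (h4 ⟨χ, hχ, ⟨_, hχa⟩⟩)) ⟨a, ha⟩
      have h6 : χ ⟨x⁻¹ * a * x, hxa⟩ = χ ⟨a, ha⟩ := h5
      apply hχa
      have h7 : (⟨(x⁻¹ * a * x) * a⁻¹, hc⟩ : A) = ⟨x⁻¹ * a * x, hxa⟩ * (⟨a, ha⟩ : A)⁻¹ := rfl
      rw [h7, wt_mul (cl τ) hχ, h6, ← wt_mul (cl τ) hχ, mul_inv_cancel, wt_one (cl τ) hχ]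
    have h8 : x⁻¹ * a * x = a := mul_inv_eq_one.1 key
    calc x * a = x * (x⁻¹ * a * x) := by rw [h8]
      _ = a * x := by group
  have h1 : Nat.card G = Nat.card φ.ker * Nat.card φ.range := by
    rw [← Subgroup.index_ker, Subgroup.card_mul_index]
  have h2 : u ^ k ∣ Nat.card φ.range := by
    rw [h1] at hk
    exact (Nat.Coprime.pow_left k ((Nat.Prime.coprime_iff_not_dvd hu).2 hker)).dvd_of_dvd_mul_left hk
  have h3 : Nat.card φ.range ∣ (Nat.card (Wts (cl τ) A)).factorial := by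
    rw [← Nat.card_perm]
    exact Subgroup.card_subgroup_dvd_card _
  refine (h2.trans h3).trans (Nat.factorial_dvd_factorial ?_)
  simpa using hle

end Rad

/-- **The radical.** -/
theorem rad {p : ℕ} [hpF : Fact p.Prime] {F : Type*} [Field F] [CharP F p] {ι : Type*} [Fintype ι] [DecidableEq ι]
    {τ : T →* GL ι F} (hτ : Function.Injective τ) {R : Subgroup T}
    (hcore : ∀ Q : Subgroup R, Q.Normal → IsPGroup p Q → Q = ⊥)
    (hfree : ∀ t : ℕ, t.Prime → t ≠ p → (∃ a : R, orderOf a = t) → (∃ A : Subgroup R, A.Normal ∧ A ≠ ⊥ ∧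
        (∀ a ∈ A, ∀ b ∈ A, a * b = b * a) ∧ ∀ a ∈ A, a ^ t = 1) →
      ∃ N m, TorG T N m ∧ m ∣ Nat.card R ∧ ¬ t ∣ N ∧ (Fintype.card ι).factorial < m) :
    ∀ S : Subgroup R, S.Normal → Group.IsSolvable S → S = ⊥ := by
  intro S hS hs
  by_contra hne
  obtain ⟨t, ht, A, hAn, hA0, hAc, hAt⟩ := exists_elem hS hs hne
  have hPt : IsPGroup t A := fun a => ⟨1, by rw [pow_one]; exact Subtype.ext (hAt a a.2)⟩
  by_cases htp : t = p
  · subst htp
    exact hA0 (hcore A hAn hPt)
  · have := Fact.mk ht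
    obtain ⟨k, hk⟩ := IsPGroup.iff_card.1 hPt
    have h3 : k ≠ 0 := by
      rintro rfl
      rw [pow_zero, Subgroup.card_eq_one] at hk
      exact hA0 hk
    have h1 : ¬ p ∣ Nat.card A := by
      intro h
      rw [hk] at h
      exact htp ((Nat.prime_dvd_prime_iff_eq hpF.out ht).1 (hpF.out.dvd_of_dvd_pow h)).symm
    obtain ⟨a, ha⟩ := exists_prime_orderOf_dvd_card' t (hk ▸ dvd_pow_self t h3)
    obtain ⟨N, m, hT, hm, htN, hlt⟩ := hfree t ht htp ⟨a, by rw [Subgroup.orderOf_coe, ha]⟩ ⟨A, hAn, hA0, hAc, hAt⟩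
    have h4 : m ∣ (Fintype.card ι).factorial := by
      refine (Nat.dvd_iff_prime_pow_dvd_dvd _ _).2 fun u j hu hj => ?_
      rcases Nat.eq_zero_or_pos j with rfl | h0
      · rw [pow_zero]; exact one_dvd _
      refine dvd_factorial (τ := τ.comp R.subtype) (hτ.comp R.subtype_injective) hAc h1 hA0 hu (fun x hx b hb hxb => ?_)
        (hj.trans hm)
      exact (hT.tc hu ((dvd_pow_self u (by omega)).trans hj)).free ht htN R.subtype R.subtype_injective hx (hAt b hb) hxb
    exact absurd (Nat.le_of_dvd (Nat.factorial_pos _) h4) (by omega)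

/-! ### bounded socles -/

/-- the characteristics of the names -/
theorem char_cases {g : Grp} (hc : Cond g) :
    (∃ m, 5 ≤ m ∧ g = .alt m) ∨ g ∈ spor.map (fun x => x.1) ∨ ∃ l, l.Prime ∧ HasChar l g := by
  have key : ∀ {q : ℕ}, IsPrimePow q → ∃ l, l.Prime ∧ ∃ f, q = l ^ f := fun h => by
    obtain ⟨l, f, hl, -, h⟩ := (isPrimePow_nat_iff _).1 h
    exact ⟨l, hl, f, h.symm⟩
  cases g with
  | alt n => exact Or.inl ⟨n, hc, rfl⟩
  | psl n q => exact Or.inr (Or.inr (key hc.2.2))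
  | psp n q => exact Or.inr (Or.inr (key hc.2.2))
  | psu n q => exact Or.inr (Or.inr (key hc.2.2))
  | oodd n q => exact Or.inr (Or.inr (key hc.2.2))
  | oplus n q => exact Or.inr (Or.inr (key hc.2))
  | ominus n q => exact Or.inr (Or.inr (key hc.2))
  | g2 q => exact Or.inr (Or.inr (key hc.2))
  | f4 q => exact Or.inr (Or.inr (key hc))
  | e6 q => exact Or.inr (Or.inr (key hc))
  | e7 q => exact Or.inr (Or.inr (key hc))
  | e8 q => exact Or.inr (Or.inr (key hc))
  | te6 q => exact Or.inr (Or.inr (key hc))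
  | td4 q => exact Or.inr (Or.inr (key hc))
  | sz q =>
    obtain ⟨m, -, h⟩ := hc
    exact Or.inr (Or.inr ⟨2, Nat.prime_two, _, h⟩)
  | ree q =>
    obtain ⟨m, -, h⟩ := hc
    exact Or.inr (Or.inr ⟨3, Nat.prime_three, _, h⟩)
  | tf4 q =>
    obtain ⟨m, -, h⟩ := hc
    exact Or.inr (Or.inr ⟨2, Nat.prime_two, _, h⟩)
  | _ => exact Or.inr (Or.inl (by decide))

/-- a bound for the order of a group of shape `X` -/
def bdX (x : Art.Sh × ℕ × ℕ) : ℕ := (x.2.1 ^ x.2.2) ^ Art.NN x.1 * Art.num x.1 (x.2.1 ^ x.2.2)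

/-- the bound for the orders -/
def KB₀ : ℕ := ((reg 248).map bdX).sum + (spor.map fun x => x.2).sum

theorem exists_KB₀ : ∃ n : ℕ, n = KB₀ := ⟨_, rfl⟩

/-- the bound for the orders (opaque) -/
noncomputable def KB : ℕ := exists_KB₀.choose

theorem KB_eq : KB = KB₀ := exists_KB₀.choose_spec

theorem le_KB {p n : ℕ} (hp : p.Prime) (hn : n ≤ 248) {F : Type} [Field F] [CharP F p] {S : Type} [Group S] [Finite S]
    [IsSimpleGroup S] (hna : ¬ IsMulCommutative S) (hF : Fth n F S) {g : Grp} (hg : IsNamed g S) :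
    (∃ m, 5 ≤ m ∧ g = .alt m) ∨ HasChar p g ∨ Nat.card S ≤ KB := by
  rcases char_cases hg.cond with h | h | ⟨l, hl, h⟩
  · exact Or.inl h
  · right; right
    obtain ⟨x, hx, rfl⟩ := List.mem_map.1 h
    have hc : Nat.card S = x.2 := hg.ord.trans (spor_ord x hx)
    rw [hc]
    have := List.le_sum_of_mem (List.mem_map_of_mem (f := fun x : Grp × ℕ => x.2) hx)
    rw [KB_eq]
    unfold KB₀
    omega
  · by_cases hlp : l = p
    · exact Or.inr (Or.inl (hlp ▸ h))
    · right; right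
      obtain ⟨X, a, h1, h2, -⟩ := exists_lie hl hg h
      have h3 : lb X (l ^ a) ≤ n := by
        refine lb_le (fun hcc => hna ⟨⟨hcc⟩⟩) hn hF h1 hg.real h2 (fun h0 => hlp ?_)
        exact ((Nat.prime_dvd_prime_iff_eq hp hl).1 ((CharP.cast_eq_zero_iff F p l).1 h0)).symm
      have h4 := mem_reg (n := 248) le_rfl hl h2.hf h2.ok (h3.trans hn)
      have h5 := List.le_sum_of_mem (List.mem_map_of_mem (f := bdX) h4)
      have h6 : Nat.card S ≤ bdX (X, (l, a)) := by
        unfold bdX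
        rw [← h2.eq]
        exact Nat.le_mul_of_pos_left _ (Nat.pos_of_ne_zero h2.dd_ne)
      rw [KB_eq]
      unfold KB₀
      omega

theorem card_mulAut_le {S : Type*} [Group S] [Finite S] : Nat.card (MulAut S) ≤ Nat.card S ^ Nat.card S := by
  rw [← Nat.card_fun]
  exact Nat.card_le_card_of_injective (fun f : MulAut S => (f : S → S)) DFunLike.coe_injective

theorem KB_pos : 1 ≤ KB := by
  have h : (7920 : ℕ) ∈ spor.map fun x => x.2 := by decide
  have := List.le_sum_of_mem h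
  rw [KB_eq]
  unfold KB₀
  omega

/-- **The socle.** -/
theorem char_of (has : ASThm.{0}) (hrf : RichFix.{0})
    (hft : ∀ (X : Type) [Group X] [Finite X], ¬ Group.IsSolvable X → 2 ∣ Nat.card X)
    (hnm : ∀ (S : Type) [Group S] [Finite S] [IsSimpleGroup S], ¬ IsMulCommutative S → ∃ g, IsNamed g S)
    {p n : ℕ} (hp : p.Prime) (hn : n ≤ 248) {F : Type} [Field F] [CharP F p] {T : Type} [Group T] [Finite T]
    (hF : Fth n F T) {R : Subgroup T} (hrad : ∀ S : Subgroup R, S.Normal → Group.IsSolvable S → S = ⊥)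
    {N m : ℕ} (hT : TorG T N m) (hmR : m ∣ Nat.card R) (hm : KB ^ KB < m) (hodd : ¬ 2 ∣ N) :
    ∃ S : Subgroup R, S.Normal ∧ IsSimpleGroup S ∧ ¬ IsMulCommutative S ∧
      Subgroup.centralizer (S : Set R) = ⊥ ∧ (∀ u, Ab T u → u ∣ Nat.card R → u ∣ Nat.card S) ∧
        ∃ g, IsNamed g S ∧ (HasChar p g ∨ ∃ k, 5 ≤ k ∧ g = .alt k) := by
  classical
  have h1 : 1 ≤ KB ^ KB := Nat.one_le_pow _ _ KB_pos
  have hns : ¬ Group.IsSolvable R := by
    intro hs
    have h3 := hrad ⊤ inferInstance inferInstance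
    have h4 : Nat.card (⊤ : Subgroup R) = 1 := by rw [h3]; simp
    rw [Subgroup.card_top] at h4
    have := Nat.le_of_dvd Nat.card_pos hmR
    omega
  obtain ⟨r, hr, hrm⟩ := Nat.exists_prime_and_dvd (n := m) (by omega)
  have htc := hT.tc hr hrm
  have hr2 : r ≠ 2 := by
    rintro rfl
    exact hodd htc.dvd_m
  obtain ⟨S, hSn, hSs, hSna, hSc⟩ := exists_socle has hrad (hft R hns) hr hr2 (hrm.trans hmR) (by
      intro g hg
      have h5 : orderOf (g ^ 2) = r := by
        rw [orderOf_pow' g (by norm_num), hg, Nat.gcd_mul_right_left, Nat.mul_div_cancel_left _ (by norm_num)]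
      have h6 := htc.free Nat.prime_two hodd R.subtype R.subtype_injective (x := g ^ 2) (a := g ^ r) h5 (by
        rw [← pow_mul, mul_comm, ← hg, pow_orderOf_eq_one]) (by rw [← pow_add, ← pow_add, add_comm])
      have h7 := orderOf_dvd_of_pow_eq_one h6
      rw [hg] at h7
      have := Nat.le_of_dvd hr.pos h7
      have := hr.pos
      omega)
  refine ⟨S, hSn, hSs, hSna, hSc, fun u hu huR => dvd_socle_rich hrf hSn hSs hSna hu.prime huR
    (fun x hx => hu.nilp R.subtype R.subtype_injective x hx), ?_⟩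
  obtain ⟨g, hg⟩ := hnm S hSna
  refine ⟨g, hg, ?_⟩
  rcases le_KB hp hn hSna ((hF.sub R.subtype R.subtype_injective).sub S.subtype S.subtype_injective) hg with h | h | h
  · exact Or.inr h
  · exact Or.inl h
  · exfalso
    have h2 := Nat.le_of_dvd Nat.card_pos (card_dvd_aut hSc)
    have h3 := card_mulAut_le (S := S)
    have h4 : Nat.card S ^ Nat.card S ≤ KB ^ KB :=
      (Nat.pow_le_pow_left h _).trans (Nat.pow_le_pow_right KB_pos h)
    have h5 := Nat.le_of_dvd Nat.card_pos hmR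
    omega

end Cfsg.Agent.H819.Dg
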