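import Cfsg.Agent.H819.Dg.Core
import Cfsg.Agent.H129.CycCardF
import Cfsg.Agent.H946.RadNum

/-!
# S5734, exceptional groups: the cyclic tori of `G₂`, `F₄`, `³D₄`, `²F₄` (helper819)
-/

set_option autoImplicit false

namespace Cfsg.Agent.H819.Dg

open Cfsg Cfsg.Agent.OrdDiv
open Cfsg.Agent.H129.CycT Cfsg.Agent.H129.CycCard Cfsg.Agent.H946.Num
open Cfsg.Agent.H436 (Prim IsNamed)

theorem torG_of {T : Type*} [Group T] [Finite T] {N m : ℕ} (hm : m ∣ N)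
    (h : ∀ u : ℕ, u.Prime → u ∣ m → CycCard T u N 1) : TorG T N m := by
  refine ⟨?_, fun u hu hd x hx => ?_⟩
  · by_cases h1 : m = 1
    · rw [h1]; exact one_dvd _
    · obtain ⟨u, hu, hd⟩ := Nat.exists_prime_and_dvd h1
      obtain ⟨C, -, -, hC2, -, -⟩ := h u hu hd
      rw [one_mul] at hC2
      exact hm.trans (hC2.trans (Subgroup.card_subgroup_dvd_card C))
  · obtain ⟨C, hc, hC1, -, hC3, hC4⟩ := h u hu hd
    obtain ⟨f, hf⟩ := exists_hom hc hu hC3 hC4 hx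
    exact ⟨isCyclic_of_injective f hf.1, by rw [Nat.card_congr (Equiv.ofBijective f hf)]; exact hC1⟩

/-- a cyclic torus of order `N` up to the prime `b` -/
def TorD (T : Type*) [Group T] (N b : ℕ) : Prop :=
  ∃ m, TorG T N m ∧ N ≤ b * m ∧ (∀ u, u.Prime → u ∣ m → u ∣ N ∧ u ≠ b) ∧ ∀ u, u.Prime → u ≠ b → u ∣ N → u ∣ m

theorem TorD.congr {T T' : Type*} [Group T] [Group T'] (e : T ≃* T') {N b : ℕ} (h : TorD T N b) : TorD T' N b := by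
  obtain ⟨m, h1, h2⟩ := h
  exact ⟨m, h1.congr e, h2⟩

theorem torD_of {T : Type*} [Group T] [Finite T] {N b : ℕ} (hb : b.Prime) (hbb : ¬ b * b ∣ N)
    (h : ∀ u : ℕ, u.Prime → u ∣ N → u ≠ b → CycCard T u N 1) : TorD T N b := by
  have hN : N ≠ 0 := by rintro rfl; exact hbb (dvd_zero _)
  by_cases hbN : b ∣ N
  · obtain ⟨m, rfl⟩ := hbN
    have h1 : ∀ u, u.Prime → u ∣ m → u ∣ b * m ∧ u ≠ b := by
      rintro u hu hd
      refine ⟨hd.mul_left _, ?_⟩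
      rintro rfl
      exact hbb (Nat.mul_dvd_mul_left _ hd)
    refine ⟨m, torG_of (Dvd.intro_left _ rfl) fun u hu hd => h u hu (h1 u hu hd).1 (h1 u hu hd).2, le_rfl, h1, ?_⟩
    intro u hu hne hd
    rcases hu.dvd_mul.1 hd with h | h
    · exact absurd ((Nat.prime_dvd_prime_iff_eq hu hb).1 h) hne
    · exact h
  · have h1 : ∀ u, u.Prime → u ∣ N → u ∣ N ∧ u ≠ b := by
      rintro u hu hd
      refine ⟨hd, ?_⟩
      rintro rfl
      exact hbN hd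
    exact ⟨N, torG_of dvd_rfl fun u hu hd => h u hu hd (h1 u hu hd).2, Nat.le_mul_of_pos_left _ hb.pos, h1,
      fun _ _ _ h => h⟩

/-! ### numbers -/

theorem nine_N3 (q : ℕ) : ¬ 3 * 3 ∣ N3 q := by
  intro h
  have h1 : ((N3 q : ℕ) : ZMod 9) = 0 := (ZMod.natCast_eq_zero_iff _ _).2 h
  unfold N3 at h1
  push_cast at h1
  generalize (q : ZMod 9) = x at h1
  revert h1; revert x; decide

theorem nine_N6 (q : ℕ) : ¬ 3 * 3 ∣ N6 q := by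
  intro h
  have h1 : ((N6 q : ℕ) : ZMod 9) = 0 := (ZMod.natCast_eq_zero_iff _ _).2 h
  have h2 : (((N6 q : ℕ) : ℤ) : ZMod 9) = 0 := by exact_mod_cast h1
  rw [cast_N6] at h2
  push_cast at h2
  generalize (q : ZMod 9) = x at h2
  revert h2; revert x; decide

theorem four_N8 (q : ℕ) : ¬ 2 * 2 ∣ N8 q := by
  intro h
  have h1 : ((N8 q : ℕ) : ZMod 4) = 0 := (ZMod.natCast_eq_zero_iff _ _).2 h
  unfold N8 at h1
  push_cast at h1
  generalize (q : ZMod 4) = x at h1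
  revert h1; revert x; decide

theorem two_N12 (q : ℕ) : ¬ 2 ∣ N12 q := by
  intro h
  have h1 := zm_N12 Nat.prime_two h
  generalize (q : ZMod 2) = x at h1
  revert h1; revert x; decide

theorem two_N3 (q : ℕ) : ¬ 2 ∣ N3 q := by
  intro h
  have h1 := zm_N3 Nat.prime_two h
  generalize (q : ZMod 2) = x at h1
  revert h1; revert x; decide

theorem two_N6 (q : ℕ) : ¬ 2 ∣ N6 q := by
  intro h
  have h1 := zm_N6 Nat.prime_two h
  generalize (q : ZMod 2) = x at h1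
  revert h1; revert x; decide

theorem le_N3 (q : ℕ) : q ≤ N3 q := by unfold N3; omega

theorem le_N6 (q : ℕ) : q ≤ N6 q := by
  have h := cast_N6 q
  zify
  rw [h]
  nlinarith [sq_nonneg ((q : ℤ) - 1)]

theorem le_N8 (q : ℕ) : q ≤ N8 q := by
  unfold N8
  exact (Nat.le_self_pow (by norm_num) q).trans (Nat.le_succ _)

theorem le_N12 (q : ℕ) : q ≤ N12 q := by
  have h := cast_N12 q
  zify
  rw [h]
  have h1 : (q : ℤ) ≤ (q : ℤ) ^ 2 := by exact_mod_cast le_sq (q := q)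
  nlinarith [sq_nonneg ((q : ℤ) ^ 2 - 1)]

/-- no common prime factors of `N₃` and `N₆` -/
theorem not_N3_N6 {q t : ℕ} (ht : t.Prime) (h3 : t ∣ N3 q) (h6 : t ∣ N6 q) : False := by
  have := Fact.mk ht
  have h0 := zm_N3 ht h3
  have h1 := zm_N6 ht h6
  have h2 : t ≠ 2 := by rintro rfl; exact two_N3 q h3
  have h4 : (2 : ZMod t) * (q : ZMod t) = 0 := by linear_combination h0 - h1
  rcases mul_eq_zero.1 h4 with h5 | h5
  · exact h2 (small_ne ht Nat.prime_two (by exact_mod_cast h5))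
  · rw [h5] at h0
    norm_num at h0

theorem not_N8_N12 {q t : ℕ} (ht : t.Prime) (h3 : t ∣ N8 q) (h6 : t ∣ N12 q) : False := by
  have := Fact.mk ht
  have h0 := zm_N8 ht h3
  have h1 := zm_N12 ht h6
  have h4 : (q : ZMod t) ^ 2 = 0 := by linear_combination h0 - h1
  have h5 : (q : ZMod t) = 0 := pow_eq_zero_iff (by norm_num) |>.1 h4
  rw [h5] at h0
  norm_num at h0

/-! ### the tori of `²F₄` -/

/-- `q² + √(2q³) + q + √(2q) + 1`, `q = 2 x²` -/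
def Np (x : ℕ) : ℕ := 4 * x ^ 4 + 4 * x ^ 3 + 2 * x ^ 2 + 2 * x + 1

/-- `q² - √(2q³) + q - √(2q) + 1`, `q = 2 x²` -/
def Nm (x : ℕ) : ℕ := (4 * x ^ 4 + 2 * x ^ 2 + 1) - (4 * x ^ 3 + 2 * x)

theorem Nm_le {x : ℕ} : 4 * x ^ 3 + 2 * x ≤ 4 * x ^ 4 + 2 * x ^ 2 + 1 := by
  rcases Nat.eq_zero_or_pos x with rfl | h
  · norm_num
  · have h1 : x ^ 3 ≤ x ^ 4 := Nat.pow_le_pow_right h (by norm_num)
    have h2 : x ≤ x ^ 2 := le_sq
    omega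

theorem cast_Nm (x : ℕ) : ((Nm x : ℕ) : ℤ) = 1 - 2 * x + 2 * x ^ 2 - 4 * x ^ 3 + 4 * x ^ 4 := by
  unfold Nm
  rw [Nat.cast_sub Nm_le]; push_cast; ring

theorem cast_Np (x : ℕ) : ((Np x : ℕ) : ℤ) = 1 + 2 * x + 2 * x ^ 2 + 4 * x ^ 3 + 4 * x ^ 4 := by
  unfold Np
  push_cast; ring

theorem Np_mul_Nm (x : ℕ) : Np x * Nm x = N12 (2 * x ^ 2) := by
  zify
  rw [cast_Np, cast_Nm, cast_N12]
  push_cast; ring

theorem not_Np_Nm {x t : ℕ} (ht : t.Prime) (h3 : t ∣ Np x) (h6 : t ∣ Nm x) : False := by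
  have := Fact.mk ht
  have h2 : t ≠ 2 := by
    rintro rfl
    exact two_N12 _ ((h3.mul_right _).trans (Np_mul_Nm x).dvd)
  have h0 : ((Np x : ℤ) : ZMod t) = 0 := by
    have := (ZMod.natCast_eq_zero_iff (Np x) t).2 h3
    exact_mod_cast this
  have h1 : ((Nm x : ℤ) : ZMod t) = 0 := by
    have := (ZMod.natCast_eq_zero_iff (Nm x) t).2 h6
    exact_mod_cast this
  rw [cast_Np] at h0
  rw [cast_Nm] at h1
  push_cast at h0 h1
  have h20 : (2 : ZMod t) ≠ 0 := fun h => h2 (small_ne ht Nat.prime_two (by exact_mod_cast h))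
  generalize (x : ZMod t) = y at h0 h1
  have h4 : (2 : ZMod t) * (2 * (y * (1 + 2 * y ^ 2))) = 0 := by linear_combination h0 - h1
  have h5 := (mul_eq_zero.1 ((mul_eq_zero.1 h4).resolve_left h20)).resolve_left h20
  rcases mul_eq_zero.1 h5 with h6 | h6
  · rw [h6] at h0
    norm_num at h0
  · have h7 : (1 : ZMod t) = 0 := by linear_combination h0 - (1 + 2 * y ^ 2 + 2 * y - 1) * h6
    exact one_ne_zero h7

theorem le_Np (x : ℕ) : 2 * x ^ 2 ≤ Np x := by unfold Np; omega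

theorem le_Nm {x : ℕ} (hx : 2 ≤ x) : 2 * x ^ 2 ≤ Nm x := by
  have h := cast_Nm x
  zify
  rw [h]
  have h1 : (2 : ℤ) ≤ x := by exact_mod_cast hx
  have h3 : (x : ℤ) ≤ (x : ℤ) ^ 3 := by
    exact_mod_cast Nat.le_self_pow (by norm_num) x
  nlinarith [mul_nonneg (pow_nonneg (by omega : (0 : ℤ) ≤ x) 3) (by omega : (0 : ℤ) ≤ (x : ℤ) - 2)]

/-! ### the families -/

theorem tor_g2 {T : Type} [Group T] [Finite T] {q : ℕ} (hT : IsNamed (.g2 q) T) :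
    TorD T (N3 q) 3 ∧ TorD T (N6 q) 3 := by
  obtain ⟨F, _, _, hF, ⟨e⟩⟩ := hT.real
  have h3 : ((N3 q : ℕ) : ℤ) = 1 + (q : ℤ) + (q : ℤ) ^ 2 := by unfold N3; push_cast; ring
  have h6 : ((N6 q : ℕ) : ℤ) = 1 - (q : ℤ) + (q : ℤ) ^ 2 := by rw [cast_N6]; ring
  exact ⟨(torD_of Nat.prime_three (nine_N3 q) fun u hu hd hne =>
      card_G2_3 hF h3 hu (h3 ▸ Int.natCast_dvd_natCast.2 hd) hne).congr e.symm,
    (torD_of Nat.prime_three (nine_N6 q) fun u hu hd hne =>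
      card_G2_6 hF h6 hu (h6 ▸ Int.natCast_dvd_natCast.2 hd) hne).congr e.symm⟩

theorem tor_f4 {T : Type} [Group T] [Finite T] {q : ℕ} (hT : IsNamed (.f4 q) T) :
    TorD T (N8 q) 2 ∧ TorD T (N12 q) 2 := by
  obtain ⟨F, _, _, hF, ⟨e⟩⟩ := hT.real
  have h8 : ((N8 q : ℕ) : ℤ) = 1 + (q : ℤ) ^ 4 := by unfold N8; push_cast; ring
  have h12 : ((N12 q : ℕ) : ℤ) = 1 - (q : ℤ) ^ 2 + (q : ℤ) ^ 4 := by rw [cast_N12]; ring
  exact ⟨(torD_of Nat.prime_two (four_N8 q) fun u hu hd hne =>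
      card_F4_8 hF h8 hu (h8 ▸ Int.natCast_dvd_natCast.2 hd) hne).congr e.symm,
    (torD_of Nat.prime_two (fun h => two_N12 q ((Dvd.intro _ rfl).trans h)) fun u hu hd _ =>
      card_F4_12 hF h12 hu (h12 ▸ Int.natCast_dvd_natCast.2 hd)).congr e.symm⟩

theorem tor_td4 {T : Type} [Group T] [Finite T] {q : ℕ} (hT : IsNamed (.td4 q) T) : TorG T (N12 q) (N12 q) := by
  obtain ⟨F, _, _, hF, ⟨e⟩⟩ := hT.real
  have h12 : ((N12 q : ℕ) : ℤ) = 1 - (q : ℤ) ^ 2 + (q : ℤ) ^ 4 := by rw [cast_N12]; ring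
  have hq : IsPrimePow q := hT.cond
  exact (torG_of dvd_rfl fun u hu hd => card_tD4_12 hq hF h12 hu (h12 ▸ Int.natCast_dvd_natCast.2 hd)).congr e.symm

theorem card_eq_td4 {T : Type} [Group T] [Finite T] {q : ℕ} (hT : IsNamed (.td4 q) T) {u : ℕ} (hu : u.Prime)
    (hd : u ∣ N12 q) {x : T} (hx : orderOf x = u) : Nat.card (Subgroup.centralizer ({x} : Set T)) = N12 q := by
  obtain ⟨F, _, _, hF, ⟨e⟩⟩ := hT.real
  have h12 : ((N12 q : ℕ) : ℤ) = 1 - (q : ℤ) ^ 2 + (q : ℤ) ^ 4 := by rw [cast_N12]; ring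
  have hq : IsPrimePow q := hT.cond
  obtain ⟨C, hc, hC1, hC2, hC3, hC4⟩ :=
    (card_tD4_12 hq hF h12 hu (h12 ▸ Int.natCast_dvd_natCast.2 hd)).congr e.symm
  rw [one_mul] at hC2
  obtain ⟨f, hf⟩ := exists_hom hc hu hC3 hC4 hx
  rw [Nat.card_congr (Equiv.ofBijective f hf)]
  exact Nat.dvd_antisymm hC1 hC2

theorem tor_tf4 {T : Type} [Group T] [Finite T] {q : ℕ} (hT : IsNamed (.tf4 q) T) :
    ∃ x, 2 ≤ x ∧ q = 2 * x ^ 2 ∧ TorG T (Np x) (Np x) ∧ TorG T (Nm x) (Nm x) ∧ TorD T (N6 q) 3 := by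
  obtain ⟨F, _, _, m, hm, hF, hq, ⟨e⟩⟩ := hT.real
  have hF' : Fintype.card F = 2 ^ (2 * m + 1) := hF.trans hq
  have hqx : q = 2 * (2 ^ m) ^ 2 := by rw [hq, ← pow_mul, pow_succ, mul_comm m 2, mul_comm]
  have hp : ((Np (2 ^ m) : ℕ) : ℤ) = 1 + 2 * (2 ^ m) + 2 * (2 ^ m) ^ 2 + 4 * (2 ^ m) ^ 3 + 4 * (2 ^ m) ^ 4 := by
    rw [cast_Np]; push_cast; ring
  have hmn : ((Nm (2 ^ m) : ℕ) : ℤ) = 1 - 2 * (2 ^ m) + 2 * (2 ^ m) ^ 2 - 4 * (2 ^ m) ^ 3 + 4 * (2 ^ m) ^ 4 := by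
    rw [cast_Nm]; push_cast; ring
  have h6 : ((N6 q : ℕ) : ℤ) = 1 - 2 * (2 ^ m) ^ 2 + 4 * (2 ^ m) ^ 4 := by rw [cast_N6, hqx]; push_cast; ring
  refine ⟨2 ^ m, ?_, hqx, ?_, ?_, ?_⟩
  · exact Nat.le_self_pow (by omega) 2
  · exact (torG_of dvd_rfl fun u hu hd => card_tF4_plus hF' hp hu (hp ▸ Int.natCast_dvd_natCast.2 hd)).congr e.symm
  · exact (torG_of dvd_rfl fun u hu hd => card_tF4_minus hF' hmn hu (hmn ▸ Int.natCast_dvd_natCast.2 hd)).congr e.symm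
  · exact (torD_of Nat.prime_three (nine_N6 q) fun u hu hd hne =>
      card_tF4_6 hF' h6 hu (h6 ▸ Int.natCast_dvd_natCast.2 hd) hne).congr e.symm

/-! ### growth -/

theorem card_g2_le {T : Type} [Group T] {q : ℕ} (hT : IsNamed (.g2 q) T) : Nat.card T ≤ q ^ 14 := by
  have h : 1 * Nat.card T = q ^ 6 * ((q ^ 2 - 1) * (q ^ 6 - 1)) := hT.eq
  rw [one_mul] at h
  rw [h]
  calc q ^ 6 * ((q ^ 2 - 1) * (q ^ 6 - 1)) ≤ q ^ 6 * (q ^ 2 * q ^ 6) :=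
        Nat.mul_le_mul_left _ (Nat.mul_le_mul (Nat.sub_le _ _) (Nat.sub_le _ _))
    _ = q ^ 14 := by ring

theorem card_f4_le {T : Type} [Group T] {q : ℕ} (hT : IsNamed (.f4 q) T) : Nat.card T ≤ q ^ 52 := by
  have h : 1 * Nat.card T = q ^ 24 * ((q ^ 2 - 1) * (q ^ 6 - 1) * (q ^ 8 - 1) * (q ^ 12 - 1)) := hT.eq
  rw [one_mul] at h
  rw [h]
  calc q ^ 24 * ((q ^ 2 - 1) * (q ^ 6 - 1) * (q ^ 8 - 1) * (q ^ 12 - 1)) ≤ q ^ 24 * (q ^ 2 * q ^ 6 * q ^ 8 * q ^ 12) :=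
        Nat.mul_le_mul_left _ (Nat.mul_le_mul (Nat.mul_le_mul (Nat.mul_le_mul (Nat.sub_le _ _) (Nat.sub_le _ _))
          (Nat.sub_le _ _)) (Nat.sub_le _ _))
    _ = q ^ 52 := by ring

theorem card_td4_le {T : Type} [Group T] {q : ℕ} (hT : IsNamed (.td4 q) T) : Nat.card T ≤ q ^ 30 := by
  have h : 1 * Nat.card T = q ^ 12 * ((q ^ 2 - 1) * (q ^ 6 - 1) * (q ^ 8 + q ^ 4 + 1)) := hT.eq
  have hq : 2 ≤ q := IsPrimePow.two_le (n := q) hT.cond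
  have h1 : q ^ 8 + q ^ 4 + 1 ≤ q ^ 10 := by
    have h2 : q ^ 4 + 1 ≤ q ^ 8 := by
      have h3 : 16 ≤ q ^ 4 := by simpa using Nat.pow_le_pow_left hq 4
      have h4 : q ^ 8 = q ^ 4 * q ^ 4 := by ring
      nlinarith
    have h5 : q ^ 10 = q ^ 8 * q ^ 2 := by ring
    have h6 : 4 ≤ q ^ 2 := by simpa using Nat.pow_le_pow_left hq 2
    have h7 : q ^ 8 * 4 ≤ q ^ 8 * q ^ 2 := Nat.mul_le_mul_left _ h6
    omega
  rw [one_mul] at h
  rw [h]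
  calc q ^ 12 * ((q ^ 2 - 1) * (q ^ 6 - 1) * (q ^ 8 + q ^ 4 + 1)) ≤ q ^ 12 * (q ^ 2 * q ^ 6 * q ^ 10) :=
        Nat.mul_le_mul_left _ (Nat.mul_le_mul (Nat.mul_le_mul (Nat.sub_le _ _) (Nat.sub_le _ _)) h1)
    _ = q ^ 30 := by ring

theorem card_tf4_le {T : Type} [Group T] {q : ℕ} (hq : 2 ≤ q) (hT : IsNamed (.tf4 q) T) : Nat.card T ≤ q ^ 28 := by
  have h : 1 * Nat.card T = q ^ 12 * ((q - 1) * (q ^ 3 + 1) * (q ^ 4 - 1) * (q ^ 6 + 1)) := hT.eq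
  have h1 : ∀ k, 1 ≤ k → q ^ k + 1 ≤ q ^ (k + 1) := by
    intro k hk
    have h2 : 1 ≤ q ^ k := Nat.one_le_pow _ _ (by omega)
    rw [pow_succ]
    nlinarith
  rw [one_mul] at h
  rw [h]
  calc q ^ 12 * ((q - 1) * (q ^ 3 + 1) * (q ^ 4 - 1) * (q ^ 6 + 1)) ≤ q ^ 12 * (q * q ^ 4 * q ^ 4 * q ^ 7) :=
        Nat.mul_le_mul_left _ (Nat.mul_le_mul (Nat.mul_le_mul (Nat.mul_le_mul (Nat.sub_le _ _) (h1 3 (by norm_num)))
          (Nat.sub_le _ _)) (h1 6 (by norm_num)))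
    _ = q ^ 28 := by ring

end Cfsg.Agent.H819.Dg
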